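import Mathlib

/-! A group with a subgroup like `3⁶ : 2M₁₂` has at most one non-trivial module of order `2²⁴`
(weight spaces of the `3⁶`). -/

set_option autoImplicit false

namespace H0.U
open Matrix

abbrev E6 := Fin 6 → ZMod 3

def M : Bool → Matrix (Fin 6) (Fin 6) (ZMod 3)
  | false => !![0,2,0,2,2,0;2,2,1,1,0,0;0,2,2,1,0,2;0,2,2,2,0,1;0,2,0,1,0,2;0,0,2,1,0,0]
  | true => !![0,0,0,1,1,2;0,0,0,2,1,1;0,0,1,0,2,2;2,0,0,0,1,1;2,1,0,1,2,0;1,0,0,1,1,2]

def l1 : Fin 12 → E6 := ![![0,0,0,0,1,0], ![2,0,0,0,0,0], ![0,1,0,0,0,0], ![2,2,2,2,2,0], ![0,0,1,0,0,0],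
  ![0,1,2,2,0,2], ![0,0,0,2,0,0], ![1,2,2,1,2,2], ![1,0,1,0,0,2], ![0,0,0,1,1,2], ![1,1,2,1,2,1], ![2,1,0,0,2,2]]
def l2 : Fin 13 → E6 := ![![0,0,0,0,0,1], ![0,0,2,1,2,0], ![0,0,2,0,1,2], ![2,2,2,0,1,1], ![0,1,1,0,0,1],
  ![2,0,0,2,1,2], ![1,1,0,1,2,0], ![2,2,0,1,0,1], ![0,0,1,1,1,1], ![1,2,2,2,0,0], ![2,1,1,0,0,0], ![2,1,1,1,2,2],
  ![1,0,0,2,1,0]]
def l3 : Fin 13 → E6 := ![![0,0,0,0,1,2], ![2,0,1,2,1,0], ![0,1,1,0,2,1], ![0,0,0,2,1,2], ![0,2,0,0,0,2],
  ![1,1,2,0,2,0], ![2,2,0,1,1,0], ![2,0,2,0,2,1], ![1,0,0,2,2,1], ![2,1,1,2,1,2], ![2,0,1,1,2,1], ![0,0,2,2,0,0],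
  ![2,1,2,0,2,2]]

def rk (v : E6) : ℕ := (0x727664778679887587888387799776a428886484996429876a477456898779668763883783a49859a975987a58397898786986887797a887a998a3787878576a68977458846858a88886887798996a7870a671457687aa8788798468856699995a4498a6264785a679769987772677997998789768886878656597378895554856874877576872869658736a898777776694697137888676775698758444aa367876887a889886764987764797567789a88765767a78a75556969566a5987a887699595983978299689868a99869856996466a7568976597657a847996716798166888aa9857a5948377aa7668888a6a462990447a98789795868869668868958988898659757686679876979779999b78288979883775758a77694688a889896a87856a565688783778799988967893547a798986835789947877186955a8298699569074798776778797877559799995583548977986a7776a6887999753999564762876373856884581230 >>>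
  (4 * ((v 0).val + 3 * ((v 1).val + 3 * ((v 2).val + 3 * ((v 3).val + 3 * ((v 4).val + 3 * (v 5).val))))))) % 16

theorem rk_ck : ∀ a b c d e f : ZMod 3, rk ![a, b, c, d, e, f] = 0 ∨ ∃ n, rk (M n *ᵥ ![a, b, c, d, e, f]) < rk ![a, b, c, d, e, f] := by
  decide +kernel

theorem rk_0 : ∀ a b c d e f : ZMod 3, rk ![a, b, c, d, e, f] = 0 → ![a, b, c, d, e, f] = 0 ∨ ![a, b, c, d, e, f] = l1 0 ∨
    ![a, b, c, d, e, f] = l2 0 ∨ ![a, b, c, d, e, f] = l3 0 := by
  decide +kernel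

theorem vec (v : E6) : v = ![v 0, v 1, v 2, v 3, v 4, v 5] := by
  ext i; fin_cases i <;> rfl

/-- a non-empty closed set of non-zero vectors contains one of three given vectors -/
theorem base {S : E6 → Prop} (h0 : ¬ S 0) (h : ∀ n v, S v → S (M n *ᵥ v)) :
    ∀ m v, rk v < m → S v → S (l1 0) ∨ S (l2 0) ∨ S (l3 0)
  | 0, _, k, _ => absurd k (Nat.not_lt_zero _)
  | m + 1, v, k, s => by
    have a := rk_ck (v 0) (v 1) (v 2) (v 3) (v 4) (v 5)
    have b := rk_0 (v 0) (v 1) (v 2) (v 3) (v 4) (v 5)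
    rw [← vec v] at a b
    rcases a with a | ⟨n, a⟩
    · rcases b a with b | b | b | b <;> subst b <;> tauto
    · exact base h0 h m _ (by omega) (h n v s)

def Wk {m : ℕ} (l : Fin (m + 1) → E6) : Prop := ∀ i : Fin m, ∃ n, l i.succ = M n *ᵥ l i.castSucc
def NP {m : ℕ} (l : Fin m → E6) : Prop := ∀ i j, i ≠ j → ∃ p q, p ≠ 5 ∧ q ≠ 5 ∧ l i p * l j q ≠ l i q * l j p
def NP' {m : ℕ} (l : Fin m → E6) : Prop := ∀ i j, i ≠ j → ∃ p q, l i p * l j q ≠ l i q * l j p

theorem wk1 : Wk l1 := by unfold Wk; decide +kernel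
theorem wk2 : Wk l2 := by unfold Wk; decide +kernel
theorem wk3 : Wk l3 := by unfold Wk; decide +kernel
theorem np1 : NP l1 := by unfold NP; decide +kernel
theorem np2 : NP' l2 := by unfold NP'; decide +kernel
theorem np3 : NP' l3 := by unfold NP'; decide +kernel
theorem nz1 : ∀ j, ∃ p, p ≠ 5 ∧ l1 j p * l1 j p = 1 := by decide +kernel

theorem Wk.all {m : ℕ} {l : Fin (m + 1) → E6} (w : Wk l) {S : E6 → Prop} (h : ∀ n v, S v → S (M n *ᵥ v))
    (s : S (l 0)) : ∀ i, S (l i) :=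
  Fin.induction s fun i k => let ⟨n, e⟩ := w i; e ▸ h n _ k

theorem sep {u v : E6} {p q : Fin 6} (h : u p * v q ≠ u q * v p) :
    ∃ a : E6, (p ≠ 5 → q ≠ 5 → a 5 = 0) ∧ a ⬝ᵥ u = 0 ∧ a ⬝ᵥ v ≠ 0 :=
  ⟨Pi.single q (u p) - Pi.single p (u q), fun a b => by simp [Pi.single_apply, a.symm, b.symm],
    by simp [sub_dotProduct, mul_comm], by simpa [sub_dotProduct, sub_eq_zero] using h⟩

theorem ind {P : E6 → Prop} (h0 : P 0) (h : ∀ a i, P a → P (a + Pi.single i 1)) (a : E6) : P a := by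
  have k : ∀ (s : Finset (Fin 6)), P (∑ i ∈ s, Pi.single i (a i)) := fun s => by
    induction s using Finset.induction_on with
    | empty => simpa using h0
    | insert i s hi ih =>
      rw [Finset.sum_insert hi, add_comm]
      generalize a i = c
      have : c = 0 ∨ c = 1 ∨ c = 1 + 1 := by revert c; decide
      rcases this with rfl | rfl | rfl
      · simpa using ih
      · exact h _ _ ih
      · rw [Pi.single_add, ← add_assoc]; exact h _ _ (h _ _ ih)
  simpa [Finset.univ_sum_single] using k Finset.univ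

end H0.U
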